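import Mathlib

set_option autoImplicit false

/-! Conjugacy of subgroups: equivalence relation and orbit-stabiliser. -/

namespace Cfsg.Agent.Lib.Helper27.ConjSub

open Pointwise

variable {G : Type*} [Group G]

/-- `W` is a conjugate of `V`. -/
def Cj (V W : Subgroup G) : Prop := ∃ g : G, W = V.map (MulAut.conj g).toMonoidHom

theorem conj_comp (a b : G) :
    (MulAut.conj a).toMonoidHom.comp (MulAut.conj b).toMonoidHom = (MulAut.conj (a * b)).toMonoidHom := by
  ext x
  simp [mul_assoc]

theorem Cj.trans {U V W : Subgroup G} (h1 : Cj U V) (h2 : Cj V W) : Cj U W := by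
  obtain ⟨a, rfl⟩ := h1
  obtain ⟨b, rfl⟩ := h2
  exact ⟨b * a, by rw [Subgroup.map_map, conj_comp]⟩

theorem Cj.symm {V W : Subgroup G} (h : Cj V W) : Cj W V := by
  obtain ⟨a, rfl⟩ := h
  refine ⟨a⁻¹, ?_⟩
  rw [Subgroup.map_map, conj_comp, inv_mul_cancel]
  ext x
  simp

theorem Cj.refl (V : Subgroup G) : Cj V V := ⟨1, by ext x; simp⟩

theorem map_conj_closure_pair (c x y : G) :
    (Subgroup.closure ({x, y} : Set G)).map (MulAut.conj c).toMonoidHom =
      Subgroup.closure ({c * x * c⁻¹, c * y * c⁻¹} : Set G) := by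
  rw [MonoidHom.map_closure, Set.image_pair]
  rfl

theorem card_conj_mul_card_normalizer [Finite G] (H : Subgroup G) :
    Nat.card {K : Subgroup G // Cj H K} * Nat.card (Subgroup.normalizer (H : Set G)) = Nat.card G := by
  let _ : MulAction G (Subgroup G) := MulAction.compHom (Subgroup G) (MulAut.conj : G →* MulAut G)
  have hsmul : ∀ g : G, g • H = H.map (MulAut.conj g).toMonoidHom := fun g => rfl
  have e := MulAction.orbitProdStabilizerEquivGroup G H
  rw [← Nat.card_congr e, Nat.card_prod]
  congr 1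
  · apply Nat.card_congr
    apply Equiv.subtypeEquivRight
    intro K
    rw [MulAction.mem_orbit_iff]
    constructor
    · rintro ⟨g, rfl⟩; exact ⟨g, hsmul g⟩
    · rintro ⟨g, rfl⟩; exact ⟨g, (hsmul g)⟩
  · have : MulAction.stabilizer G H = Subgroup.normalizer (H : Set G) := by
      ext g
      rw [MulAction.mem_stabilizer_iff, Subgroup.mem_normalizer_iff_map_conj_eq, hsmul]
      exact Iff.rfl
    rw [this]

end Cfsg.Agent.Lib.Helper27.ConjSub
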