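import Mathlib

set_option autoImplicit false
set_option linter.unusedSectionVars false

/-! The image of a generalized quaternion group modulo its centre, abstractly. -/

namespace Cfsg.Agent.Lib.Helper27.QuatQuot

open QuaternionGroup

variable {H : Type*} [Group H] {n : ℕ}

theorem natCast_ne_zero' (hn : 0 < n) : ((n : ℕ) : ZMod (2 * n)) ≠ 0 := by
  intro h
  rw [ZMod.natCast_eq_zero_iff] at h
  have := Nat.le_of_dvd hn h
  omega

theorem natCast_add_self : ((n : ℕ) : ZMod (2 * n)) + (n : ZMod (2 * n)) = 0 := by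
  have : ((2 * n : ℕ) : ZMod (2 * n)) = 0 := ZMod.natCast_self _
  rw [← this]; push_cast; ring

variable (f : QuaternionGroup n →* H) (hf : ∀ q : QuaternionGroup n, f q = 1 ↔ q * q = 1)

include hf

theorem f_a_n : f (a (n : ZMod (2 * n))) = 1 := by
  rw [hf, a_mul_a, natCast_add_self, one_def]

theorem orderOf_f_xa (hn : 0 < n) (i : ZMod (2 * n)) : orderOf (f (xa i)) = 2 := by
  apply orderOf_eq_prime
  · rw [pow_two, ← map_mul, xa_mul_xa]
    have : (n : ZMod (2 * n)) + i - i = n := by ring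
    rw [this]; exact f_a_n f hf
  · rw [Ne, hf, xa_mul_xa]
    have : (n : ZMod (2 * n)) + i - i = n := by ring
    rw [this, one_def]
    intro h
    exact natCast_ne_zero' hn (a.inj h)

theorem f_a_mem (i : ZMod (2 * n)) (hn : 0 < n) : f (a i) ∈ Subgroup.zpowers (f (a 1)) := by
  have : NeZero (2 * n) := ⟨by omega⟩
  refine ⟨(i.val : ℤ), ?_⟩
  show f (a 1) ^ (i.val : ℤ) = f (a i)
  rw [zpow_natCast, ← map_pow, a_one_pow, ZMod.natCast_zmod_val]

theorem orderOf_f_a_one {k : ℕ} (hk : 1 ≤ k) (hn : n = 2 ^ k) : orderOf (f (a 1)) = 2 ^ k := by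
  obtain ⟨k', rfl⟩ : ∃ k', k = k' + 1 := ⟨k - 1, by omega⟩
  have : Fact (Nat.Prime 2) := ⟨Nat.prime_two⟩
  apply orderOf_eq_prime_pow
  · rw [← map_pow, hf, ← pow_add]
    intro h
    have h1 := orderOf_dvd_of_pow_eq_one h
    rw [orderOf_a_one, hn] at h1
    have h2 : 2 ^ k' + 2 ^ k' = 2 ^ (k' + 1) := by ring
    rw [h2] at h1
    have h3 := Nat.le_of_dvd (by positivity) h1
    have : 0 < 2 ^ (k' + 1) := by positivity
    omega
  · rw [← map_pow, a_one_pow, ← hn]
    exact f_a_n f hf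

theorem range_cases (x : H) (hx : x ∈ f.range) : (∃ i, x = f (a i)) ∨ ∃ i, x = f (xa i) := by
  obtain ⟨q, rfl⟩ := hx
  cases q with
  | a i => exact Or.inl ⟨i, rfl⟩
  | xa i => exact Or.inr ⟨i, rfl⟩

theorem orderOf_two_of_not_mem (hn : 0 < n) (x : H) (hx : x ∈ f.range) (hxc : x ∉ Subgroup.zpowers (f (a 1))) :
    orderOf x = 2 := by
  rcases range_cases f hf x hx with ⟨i, rfl⟩ | ⟨i, rfl⟩
  · exact absurd (f_a_mem f hf i hn) hxc
  · exact orderOf_f_xa f hf hn i

theorem mul_mem_of_not_mem (hn : 0 < n) (x : H) (hx : x ∈ f.range) (y : H) (hy : y ∈ f.range)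
    (hxc : x ∉ Subgroup.zpowers (f (a 1))) (hyc : y ∉ Subgroup.zpowers (f (a 1))) :
    x * y ∈ Subgroup.zpowers (f (a 1)) := by
  rcases range_cases f hf x hx with ⟨i, rfl⟩ | ⟨i, rfl⟩
  · exact absurd (f_a_mem f hf i hn) hxc
  rcases range_cases f hf y hy with ⟨j, rfl⟩ | ⟨j, rfl⟩
  · exact absurd (f_a_mem f hf j hn) hyc
  rw [← map_mul, xa_mul_xa]
  exact f_a_mem f hf _ hn

theorem closure_invol (hn : 0 < n) : Subgroup.closure {x : H | x ∈ f.range ∧ orderOf x = 2} = f.range := by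
  apply le_antisymm
  · rw [Subgroup.closure_le]
    rintro x ⟨hx, -⟩; exact hx
  · intro x hx
    have hxa : ∀ i, f (xa i) ∈ Subgroup.closure {x : H | x ∈ f.range ∧ orderOf x = 2} := fun i =>
      Subgroup.subset_closure ⟨⟨_, rfl⟩, orderOf_f_xa f hf hn i⟩
    rcases range_cases f hf x hx with ⟨i, rfl⟩ | ⟨i, rfl⟩
    · have : (a i : QuaternionGroup n) = xa 0 * xa (i - (n : ZMod (2 * n))) := by
        rw [xa_mul_xa]; congr 1; ring
      rw [this, map_mul]
      exact Subgroup.mul_mem _ (hxa _) (hxa _)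
    · exact hxa i

theorem range_ne_bot (hn : 0 < n) : f.range ≠ ⊥ := by
  intro h
  have h1 : f (xa 0) ∈ f.range := ⟨_, rfl⟩
  rw [h, Subgroup.mem_bot] at h1
  have := orderOf_f_xa f hf hn 0
  rw [h1, orderOf_one] at this
  omega

end Cfsg.Agent.Lib.Helper27.QuatQuot
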