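import Mathlib
import Cfsg.Agent.Lib.Helper13.SL2
import Cfsg.Agent.Lib.Helper13.SL2Odd

set_option autoImplicit false

/-! Orders of centralisers in `SL₂(q)`. -/

namespace Cfsg.Agent.Lib.Helper27.SL2Cent

open Matrix Cfsg.Agent.Lib.Helper13

variable {F : Type*} [Field F] [Fintype F]

local notation "SL2" => Matrix.SpecialLinearGroup (Fin 2) F

theorem card_sol_split (l : F) (hl0 : l ≠ 0) (hl : l ^ 2 ≠ 1) :
    Nat.card {xy : F × F // xy.1 ^ 2 + xy.1 * xy.2 * (l + l⁻¹) + xy.2 ^ 2 = 1} = Fintype.card F - 1 := by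
  classical
  have hd : l ^ 2 - 1 ≠ 0 := sub_ne_zero.mpr hl
  let e : {xy : F × F // xy.1 ^ 2 + xy.1 * xy.2 * (l + l⁻¹) + xy.2 ^ 2 = 1} ≃ Fˣ :=
    { toFun := fun xy => ⟨xy.1.1 + l * xy.1.2, xy.1.1 + l⁻¹ * xy.1.2, by
          have := xy.2
          field_simp at this ⊢
          linear_combination this, by
          have := xy.2
          field_simp at this ⊢
          linear_combination this⟩
      invFun := fun u => ⟨((u : F) - l * (l * ((u : F) - (u : F)⁻¹) / (l ^ 2 - 1)),
          l * ((u : F) - (u : F)⁻¹) / (l ^ 2 - 1)), by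
          have hu : (u : F) ≠ 0 := u.ne_zero
          field_simp
          ring⟩
      left_inv := by
        rintro ⟨⟨x, y⟩, h⟩
        have h1 : (x + l * y) * (x + l⁻¹ * y) = 1 := by
          field_simp at h ⊢
          linear_combination h
        have h2 : (x + l * y)⁻¹ = x + l⁻¹ * y := inv_eq_of_mul_eq_one_right h1
        apply Subtype.ext
        simp only [h2]
        ext
        · simp only
          field_simp
          ring
        · simp only
          field_simp
          ring
      right_inv := by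
        intro u
        apply Units.ext
        simp }
  rw [Nat.card_congr e, Nat.card_eq_fintype_card, Fintype.card_units]

/-- every element is represented by the norm form, unless `q` is odd and `t = ±2`. -/
theorem repr_all (t : F) (ht : Odd (Fintype.card F) → t ^ 2 ≠ 4) (c : F) :
    ∃ x y : F, x ^ 2 + x * y * t + y ^ 2 = c := by
  by_cases hodd : Odd (Fintype.card F)
  · exact repr_of_ne hodd t (ht hodd) c
  · have h2 : ringChar F = 2 := by
      by_contra h
      exact hodd (Nat.odd_iff.mpr (FiniteField.odd_card_of_char_ne_two h))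
    obtain ⟨s, hs⟩ := FiniteField.isSquare_of_char_two h2 c
    exact ⟨s, 0, by rw [hs]; ring⟩

theorem card_sol_eq (t c : F) (hc : c ≠ 0) (hrep : ∃ x y : F, x ^ 2 + x * y * t + y ^ 2 = c) :
    Nat.card {xy : F × F // xy.1 ^ 2 + xy.1 * xy.2 * t + xy.2 ^ 2 = c} =
      Nat.card {xy : F × F // xy.1 ^ 2 + xy.1 * xy.2 * t + xy.2 ^ 2 = 1} := by
  obtain ⟨x0, y0, h0⟩ := hrep
  symm
  refine Nat.card_congr
    { toFun := fun xy => ⟨(xy.1.1 * x0 - xy.1.2 * y0, xy.1.1 * y0 + xy.1.2 * x0 + t * xy.1.2 * y0), by
        have := xy.2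
        simp only
        rw [← h0]
        linear_combination (x0 ^ 2 + x0 * y0 * t + y0 ^ 2) * this⟩
      invFun := fun xy => ⟨((xy.1.1 * (x0 + t * y0) + xy.1.2 * y0) / c,
          (- xy.1.1 * y0 + xy.1.2 * (x0 + t * y0) - t * xy.1.2 * y0) / c), by
        have := xy.2
        simp only
        field_simp
        linear_combination (x0 ^ 2 + x0 * y0 * t + y0 ^ 2) * this + c * h0⟩
      left_inv := by
        rintro ⟨⟨x, y⟩, h⟩
        apply Subtype.ext
        ext
        · simp only
          field_simp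
          rw [← h0]; ring
        · simp only
          field_simp
          rw [← h0]; ring
      right_inv := by
        rintro ⟨⟨x, y⟩, h⟩
        apply Subtype.ext
        ext
        · simp only
          field_simp
          rw [← h0]; ring
        · simp only
          field_simp
          rw [← h0]; ring }

theorem card_sol_zero (t : F) (h : ∀ l : F, l ≠ 0 → l + l⁻¹ ≠ t) :
    Nat.card {xy : F × F // xy.1 ^ 2 + xy.1 * xy.2 * t + xy.2 ^ 2 = 0} = 1 := by
  rw [Nat.card_eq_one_iff_unique]
  refine ⟨⟨?_⟩, ⟨⟨(0, 0), by simp⟩⟩⟩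
  have key : ∀ a : {xy : F × F // xy.1 ^ 2 + xy.1 * xy.2 * t + xy.2 ^ 2 = 0}, a.1 = (0, 0) := by
    rintro ⟨⟨x, y⟩, hxy⟩
    simp only at hxy
    by_cases hy : y = 0
    · subst hy
      have : x ^ 2 = 0 := by linear_combination hxy
      simp [pow_eq_zero_iff] at this
      simp [this]
    · exfalso
      have hx : x ≠ 0 := by
        rintro rfl
        apply hy
        have : y ^ 2 = 0 := by linear_combination hxy
        simpa using this
      apply h (-x / y) (div_ne_zero (neg_ne_zero.mpr hx) hy)
      field_simp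
      linear_combination -hxy
  intro a b
  apply Subtype.ext
  rw [key a, key b]

theorem card_sol_nonsplit (t : F) (h : ∀ l : F, l ≠ 0 → l + l⁻¹ ≠ t) :
    Nat.card {xy : F × F // xy.1 ^ 2 + xy.1 * xy.2 * t + xy.2 ^ 2 = 1} = Fintype.card F + 1 := by
  classical
  have ht : t ^ 2 ≠ 4 := by
    intro h4
    have : (t - 2) * (t + 2) = 0 := by linear_combination h4
    rcases mul_eq_zero.mp this with h1 | h1
    · apply h 1 one_ne_zero
      simp
      linear_combination -h1
    · apply h (-1) (by simp)
      rw [inv_neg, inv_one]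
      linear_combination -h1
  have hsum := Fintype.card_congr (Equiv.sigmaFiberEquiv
    (fun xy : F × F => xy.1 ^ 2 + xy.1 * xy.2 * t + xy.2 ^ 2))
  rw [Fintype.card_sigma, Fintype.card_prod] at hsum
  rw [← Finset.add_sum_erase _ _ (Finset.mem_univ (0 : F))] at hsum
  have h0 := card_sol_zero t h
  rw [Nat.card_eq_fintype_card] at h0
  rw [h0] at hsum
  have h1 : ∀ c ∈ (Finset.univ : Finset F).erase 0,
      Fintype.card {xy : F × F // xy.1 ^ 2 + xy.1 * xy.2 * t + xy.2 ^ 2 = c} =
      Nat.card {xy : F × F // xy.1 ^ 2 + xy.1 * xy.2 * t + xy.2 ^ 2 = 1} := by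
    intro c hc
    rw [← Nat.card_eq_fintype_card]
    exact card_sol_eq t c (Finset.ne_of_mem_erase hc) (repr_all t (fun _ => ht) c)
  rw [Finset.sum_congr rfl h1, Finset.sum_const, Finset.card_erase_of_mem (Finset.mem_univ _),
    Finset.card_univ, smul_eq_mul] at hsum
  have hq : 2 ≤ Fintype.card F := Fintype.one_lt_card
  obtain ⟨k, hk⟩ : ∃ k, Fintype.card F = k + 1 := ⟨Fintype.card F - 1, by omega⟩
  rw [hk] at hsum ⊢
  simp only [Nat.add_sub_cancel] at hsum
  have hk0 : 0 < k := by omega
  apply Nat.eq_of_mul_eq_mul_left hk0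
  nlinarith

theorem card_sol_unip_neg (hodd : Odd (Fintype.card F)) :
    Nat.card {xy : F × F // xy.1 ^ 2 + xy.1 * xy.2 * (-2) + xy.2 ^ 2 = 1} = 2 * Fintype.card F := by
  rw [← card_sol_unip hodd]
  refine Nat.card_congr
    { toFun := fun xy => ⟨(xy.1.1, -xy.1.2), by have := xy.2; simp only; linear_combination this⟩
      invFun := fun xy => ⟨(xy.1.1, -xy.1.2), by have := xy.2; simp only; linear_combination this⟩
      left_inv := by rintro ⟨⟨x, y⟩, h⟩; simp
      right_inv := by rintro ⟨⟨x, y⟩, h⟩; simp }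

theorem card_sol_unip_even (h2 : (2 : F) = 0) :
    Nat.card {xy : F × F // xy.1 ^ 2 + xy.1 * xy.2 * 0 + xy.2 ^ 2 = 1} = Fintype.card F := by
  rw [← Nat.card_eq_fintype_card]
  refine Nat.card_congr
    { toFun := fun xy => xy.1.1
      invFun := fun x => ⟨(x, 1 + x), by simp only; linear_combination (x + x ^ 2) * h2⟩
      left_inv := by
        rintro ⟨⟨x, y⟩, h⟩
        apply Subtype.ext
        simp only [Prod.mk.injEq, true_and]
        simp only at h
        have : (x + y + 1) ^ 2 = 0 := by linear_combination h + (x * y + x + y + 1) * h2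
        have h3 : x + y + 1 = 0 := by simpa using this
        linear_combination -h3 + (x + 1) * h2
      right_inv := by intro x; rfl }

/-! ### centralisers -/

theorem card_centralizer_split (g : SL2) (hg : NonScal (g : Matrix (Fin 2) (Fin 2) F)) (l : F)
    (hl0 : l ≠ 0) (hl : l ^ 2 ≠ 1) (ht : (g : Matrix (Fin 2) (Fin 2) F).trace = l + l⁻¹) :
    Nat.card (Subgroup.centralizer ({g} : Set SL2)) = Fintype.card F - 1 := by
  rw [card_centralizer_SL g hg, ht, card_sol_split l hl0 hl]

theorem card_centralizer_nonsplit (g : SL2) (hg : NonScal (g : Matrix (Fin 2) (Fin 2) F))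
    (h : ∀ l : F, l ≠ 0 → l + l⁻¹ ≠ (g : Matrix (Fin 2) (Fin 2) F).trace) :
    Nat.card (Subgroup.centralizer ({g} : Set SL2)) = Fintype.card F + 1 := by
  rw [card_centralizer_SL g hg, card_sol_nonsplit _ h]

theorem card_centralizer_unip_odd (hodd : Odd (Fintype.card F)) (g : SL2)
    (hg : NonScal (g : Matrix (Fin 2) (Fin 2) F))
    (ht : (g : Matrix (Fin 2) (Fin 2) F).trace ^ 2 = 4) :
    Nat.card (Subgroup.centralizer ({g} : Set SL2)) = 2 * Fintype.card F := by
  rw [card_centralizer_SL g hg]
  have : ((g : Matrix (Fin 2) (Fin 2) F).trace - 2) * ((g : Matrix (Fin 2) (Fin 2) F).trace + 2) = 0 := by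
    linear_combination ht
  rcases mul_eq_zero.mp this with h1 | h1
  · rw [sub_eq_zero.mp h1, card_sol_unip hodd]
  · rw [eq_neg_of_add_eq_zero_left h1, card_sol_unip_neg hodd]

theorem card_centralizer_unip_even (h2 : (2 : F) = 0) (g : SL2)
    (hg : NonScal (g : Matrix (Fin 2) (Fin 2) F))
    (ht : (g : Matrix (Fin 2) (Fin 2) F).trace = 0) :
    Nat.card (Subgroup.centralizer ({g} : Set SL2)) = Fintype.card F := by
  rw [card_centralizer_SL g hg, ht, card_sol_unip_even h2]

/-- there is a trace value which is not of the form `l + l⁻¹`. -/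
theorem exists_nonsplit : ∃ t : F, ∀ l : F, l ≠ 0 → l + l⁻¹ ≠ t := by
  classical
  by_contra hcon
  push Not at hcon
  have hsurj : Function.Surjective (fun u : Fˣ => (u : F) + (u : F)⁻¹) := by
    intro t
    obtain ⟨l, hl0, hl⟩ := hcon t
    exact ⟨Units.mk0 l hl0, hl⟩
  have := Fintype.card_le_of_surjective _ hsurj
  rw [Fintype.card_units] at this
  have hq : 2 ≤ Fintype.card F := Fintype.one_lt_card
  omega

end Cfsg.Agent.Lib.Helper27.SL2Cent
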