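import Mathlib
import Cfsg.Agent.Lib.Helper2.KleinMk
import Cfsg.Agent.Lib.Helper8.FourSub

set_option autoImplicit false

/-! Counting Klein four-subgroups by pairs of commuting involutions. -/

namespace Cfsg.Agent.Lib.Helper27.KleinCount

open Cfsg.Agent.Lib.Helper2 Cfsg.Agent.Lib.Helper8

theorem card_pairs_eq {G : Type*} [Group G] [Finite G] :
    Nat.card {p : G × G // orderOf p.1 = 2 ∧ orderOf p.2 = 2 ∧ p.1 ≠ p.2 ∧ Commute p.1 p.2} =
      6 * Nat.card {V : Subgroup G // IsKleinFour V} := by
  classical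
  have := Fintype.ofFinite G
  have := Fintype.ofFinite (Subgroup G)
  set s : Finset (G × G) := Finset.univ.filter
    (fun p => orderOf p.1 = 2 ∧ orderOf p.2 = 2 ∧ p.1 ≠ p.2 ∧ Commute p.1 p.2) with hs
  set t : Finset (Subgroup G) := Finset.univ.filter (fun V => IsKleinFour V) with ht
  have h1 : Nat.card {p : G × G // orderOf p.1 = 2 ∧ orderOf p.2 = 2 ∧ p.1 ≠ p.2 ∧ Commute p.1 p.2} =
      s.card := by
    rw [Nat.card_eq_fintype_card, Fintype.card_subtype]
  have h2 : Nat.card {V : Subgroup G // IsKleinFour V} = t.card := by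
    rw [Nat.card_eq_fintype_card, Fintype.card_subtype]
  rw [h1, h2, Finset.card_eq_sum_card_fiberwise
    (f := fun p : G × G => Subgroup.closure ({p.1, p.2} : Set G)) (t := t) ?_]
  · rw [Finset.sum_const_nat (m := 6), mul_comm]
    intro V hV
    have hV4 : IsKleinFour V := (Finset.mem_filter.1 hV).2
    set S : Finset G := (Finset.univ.filter (· ∈ V)).erase 1 with hS
    have hScard : S.card = 3 := by
      rw [hS, Finset.card_erase_of_mem (by simp [Subgroup.one_mem])]
      have : (Finset.univ.filter (· ∈ V)).card = Nat.card V := by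
        rw [Nat.card_eq_fintype_card, Fintype.card_subtype]
      rw [this, hV4.card_four]
    have hfib : s.filter (fun p => Subgroup.closure ({p.1, p.2} : Set G) = V) = S.offDiag := by
      ext ⟨a, b⟩
      simp only [hs, hS, Finset.mem_filter, Finset.mem_univ, true_and, Finset.mem_offDiag,
        Finset.mem_erase]
      constructor
      · rintro ⟨⟨ha, hb, hab, -⟩, hc⟩
        have haV : a ∈ V := by
          rw [← hc]; exact Subgroup.subset_closure (by simp)
        have hbV : b ∈ V := by
          rw [← hc]; exact Subgroup.subset_closure (by simp)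
        refine ⟨⟨?_, haV⟩, ⟨?_, hbV⟩, hab⟩
        · rintro rfl; simp at ha
        · rintro rfl; simp at hb
      · rintro ⟨⟨ha1, haV⟩, ⟨hb1, hbV⟩, hab⟩
        have ha : orderOf a = 2 := orderOf_eq_prime (by rw [pow_two]; exact kleinFour_sq hV4 a haV) ha1
        have hb : orderOf b = 2 := orderOf_eq_prime (by rw [pow_two]; exact kleinFour_sq hV4 b hbV) hb1
        have hc : Commute a b := kleinFour_comm hV4 a haV b hbV
        refine ⟨⟨ha, hb, hab, hc⟩, ?_⟩
        apply Subgroup.eq_of_le_of_card_ge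
        · rw [Subgroup.closure_le]
          rintro x (rfl | rfl)
          · exact haV
          · exact hbV
        · rw [hV4.card_four, (isKleinFour_closure ha hb hc hab).card_four]
    rw [hfib, Finset.offDiag_card, hScard]
  · intro p hp
    simp only [hs, Finset.coe_filter, Finset.mem_univ, true_and, Set.mem_ofPred_eq] at hp
    simp only [ht, Finset.coe_filter, Finset.mem_univ, true_and, Set.mem_ofPred_eq]
    exact isKleinFour_closure hp.1 hp.2.1 hp.2.2.2 hp.2.2.1

theorem orderOf_of_isConj' {G : Type*} [Group G] {a x : G} (h : IsConj a x) : orderOf x = orderOf a := by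
  obtain ⟨c, rfl⟩ := isConj_iff.mp h
  have : c * a * c⁻¹ = MulAut.conj c a := by simp
  rw [this, MulEquiv.orderOf_eq]

theorem card_class_mul {G : Type*} [Group G] (g : G) :
    Nat.card (ConjClasses.mk g).carrier * Nat.card (Subgroup.centralizer ({g} : Set G)) = Nat.card G := by
  have e := MulAction.orbitProdStabilizerEquivGroup (ConjAct G) g
  have h1 := Nat.card_congr e
  rw [Nat.card_prod, ConjAct.orbit_eq_carrier_conjClasses] at h1
  have h2 : Nat.card (MulAction.stabilizer (ConjAct G) g) = Nat.card (Subgroup.centralizer ({g} : Set G)) := by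
    rw [Subgroup.centralizer_eq_comap_stabilizer]
    refine Nat.card_congr ⟨fun x => ⟨ConjAct.ofConjAct x.1, x.2⟩, fun x => ⟨ConjAct.toConjAct x.1, x.2⟩, fun x => rfl, fun x => rfl⟩
  rw [h2] at h1
  exact h1.trans (Nat.card_congr (ConjAct.ofConjAct (G := G)).toEquiv)

theorem two_mul_card_pairs {G : Type*} [Group G] [Finite G] (x0 : G) (hx0 : orderOf x0 = 2)
    (hconj : ∀ x y : G, orderOf x = 2 → orderOf y = 2 → IsConj x y)
    (hY : ∀ x : G, orderOf x = 2 → 2 * Nat.card {y : G // orderOf y = 2 ∧ x ≠ y ∧ Commute x y} =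
      Nat.card (Subgroup.centralizer ({x} : Set G))) :
    2 * Nat.card {p : G × G // orderOf p.1 = 2 ∧ orderOf p.2 = 2 ∧ p.1 ≠ p.2 ∧ Commute p.1 p.2} =
      Nat.card G := by
  classical
  have := Fintype.ofFinite G
  let e : {p : G × G // orderOf p.1 = 2 ∧ orderOf p.2 = 2 ∧ p.1 ≠ p.2 ∧ Commute p.1 p.2} ≃
      Σ x : {x : G // orderOf x = 2}, {y : G // orderOf y = 2 ∧ (x : G) ≠ y ∧ Commute (x : G) y} :=
    { toFun := fun p => ⟨⟨p.1.1, p.2.1⟩, ⟨p.1.2, p.2.2⟩⟩
      invFun := fun z => ⟨(z.1.1, z.2.1), ⟨z.1.2, z.2.2⟩⟩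
      left_inv := fun p => rfl
      right_inv := fun z => rfl }
  rw [Nat.card_congr e, Nat.card_sigma, Finset.mul_sum]
  have hI : ∀ x : G, orderOf x = 2 →
      Nat.card {x : G // orderOf x = 2} * Nat.card (Subgroup.centralizer ({x} : Set G)) = Nat.card G := by
    intro x hx
    rw [← card_class_mul x]
    congr 1
    apply Nat.card_congr
    apply Equiv.subtypeEquivRight
    intro y
    rw [ConjClasses.mem_carrier_iff_mk_eq, ConjClasses.mk_eq_mk_iff_isConj]
    constructor
    · intro hy; exact hconj y x hy hx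
    · intro hy; rw [← orderOf_of_isConj' hy]; exact hx
  have hpos : 0 < Nat.card {x : G // orderOf x = 2} := by
    have : Nonempty {x : G // orderOf x = 2} := ⟨⟨x0, hx0⟩⟩
    exact Nat.card_pos
  have hc : ∀ x : {x : G // orderOf x = 2},
      2 * Nat.card {y : G // orderOf y = 2 ∧ (x : G) ≠ y ∧ Commute (x : G) y} =
        Nat.card (Subgroup.centralizer ({x0} : Set G)) := by
    intro x
    rw [hY x.1 x.2]
    apply Nat.eq_of_mul_eq_mul_left hpos
    rw [hI x.1 x.2, hI x0 hx0]
  rw [Finset.sum_congr rfl (fun x _ => hc x), Finset.sum_const, Finset.card_univ, smul_eq_mul,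
    ← Nat.card_eq_fintype_card, hI x0 hx0]

end Cfsg.Agent.Lib.Helper27.KleinCount
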