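import Mathlib

set_option autoImplicit false

/-! Redundant Sylow subgroups pass to and from central quotients. -/

namespace Cfsg.Agent.Lib.Helper27.RedundantQuot

variable {G : Type*} [Group G] [Finite G]

theorem sylow_orderOf' {p : ℕ} [Fact p.Prime] (P : Sylow p G) (x : G)
    (hx : x ∈ (P : Subgroup G)) : ∃ k, orderOf x = p ^ k := by
  obtain ⟨k, hk⟩ := (IsPGroup.iff_orderOf.1 P.2) ⟨x, hx⟩
  exact ⟨k, by rw [← hk, Subgroup.orderOf_mk]⟩

theorem mem_of_map_mem (p : ℕ) [Fact p.Prime] (Z : Subgroup G) [Z.Normal]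
    (hZ : Z ≤ Subgroup.center G) (P : Sylow p G) (x : G) (hx : ∃ k, orderOf x = p ^ k)
    (h : QuotientGroup.mk' Z x ∈ (P : Subgroup G).map (QuotientGroup.mk' Z)) :
    x ∈ (P : Subgroup G) := by
  obtain ⟨a, ha, hax⟩ := Subgroup.mem_map.1 h
  have hz : a⁻¹ * x ∈ Z := QuotientGroup.eq.1 hax
  have hzc : a⁻¹ * x ∈ Subgroup.center G := hZ hz
  obtain ⟨i, hi⟩ := sylow_orderOf' P a ha
  obtain ⟨j, hj⟩ := hx
  have hcomm : Commute a⁻¹ x := by
    have h1 := Subgroup.mem_center_iff.1 hzc a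
    -- a * (a⁻¹ * x) = (a⁻¹ * x) * a
    have h2 : x * a = a * x := by
      have : x = a⁻¹ * x * a := by rw [← h1]; group
      calc x * a = a * (a⁻¹ * x * a) := by group
        _ = a * x := by rw [← this]
    show a⁻¹ * x = x * a⁻¹
    calc a⁻¹ * x = a⁻¹ * (x * a) * a⁻¹ := by group
      _ = a⁻¹ * (a * x) * a⁻¹ := by rw [h2]
      _ = x * a⁻¹ := by group
  have hpow : (a⁻¹ * x) ^ (p ^ (i + j)) = 1 := by
    rw [hcomm.mul_pow, inv_pow, pow_add, pow_mul, ← hi, pow_orderOf_eq_one, one_pow, inv_one, one_mul,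
      mul_comm (orderOf a), pow_mul, ← hj, pow_orderOf_eq_one, one_pow]
  obtain ⟨m, -, hm⟩ := (Nat.dvd_prime_pow Fact.out).1 (orderOf_dvd_of_pow_eq_one hpow)
  have hP : IsPGroup p (Subgroup.zpowers (a⁻¹ * x)) :=
    IsPGroup.of_card (n := m) (by rw [Nat.card_zpowers, hm])
  have h8 := hP.inf_normalizer_sylow P
  have h9 : a⁻¹ * x ∈ Subgroup.zpowers (a⁻¹ * x) ⊓ Subgroup.normalizer ((P : Subgroup G) : Set G) :=
    ⟨Subgroup.mem_zpowers _, Subgroup.center_le_normalizer _ hzc⟩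
  have h10 : a⁻¹ * x ∈ Subgroup.zpowers (a⁻¹ * x) ⊓ (P : Subgroup G) := by rw [← h8]; exact h9
  have : x = a * (a⁻¹ * x) := by group
  rw [this]
  exact Subgroup.mul_mem _ ha h10.2

theorem redundant_quotient_iff (p : ℕ) [Fact p.Prime] (Z : Subgroup G) [Z.Normal]
    (hZ : Z ≤ Subgroup.center G) :
    (∃ Q : Sylow p (G ⧸ Z), ∀ x : G ⧸ Z, (∃ k : ℕ, orderOf x = p ^ k) →
        ∃ P : Sylow p (G ⧸ Z), P ≠ Q ∧ x ∈ P) ↔
    (∃ Q : Sylow p G, ∀ x : G, (∃ k : ℕ, orderOf x = p ^ k) → ∃ P : Sylow p G, P ≠ Q ∧ x ∈ P) := by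
  have hsurj : Function.Surjective (QuotientGroup.mk' Z) := QuotientGroup.mk'_surjective Z
  have hS := Sylow.mapSurjective_surjective hsurj p
  constructor
  · rintro ⟨Qb, hQb⟩
    obtain ⟨Q, rfl⟩ := hS Qb
    refine ⟨Q, ?_⟩
    rintro x ⟨k, hk⟩
    have hxo : ∃ j, orderOf (QuotientGroup.mk' Z x) = p ^ j := by
      have := orderOf_map_dvd (QuotientGroup.mk' Z) x
      rw [hk] at this
      obtain ⟨j, -, hj⟩ := (Nat.dvd_prime_pow Fact.out).1 this
      exact ⟨j, hj⟩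
    obtain ⟨Pb, hne, hmem⟩ := hQb _ hxo
    obtain ⟨P, rfl⟩ := hS Pb
    refine ⟨P, ?_, ?_⟩
    · rintro rfl
      exact hne rfl
    · apply mem_of_map_mem p Z hZ P x ⟨k, hk⟩
      have : QuotientGroup.mk' Z x ∈ ((Sylow.mapSurjective hsurj P : Sylow p (G ⧸ Z)) : Subgroup (G ⧸ Z)) :=
        hmem
      rwa [Sylow.coe_mapSurjective] at this
  · rintro ⟨Q, hQ⟩
    refine ⟨Sylow.mapSurjective hsurj Q, ?_⟩
    rintro xb ⟨k, hk⟩
    obtain ⟨P₀b, hP₀⟩ := IsPGroup.exists_le_sylow (p := p) (P := Subgroup.zpowers xb)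
      (IsPGroup.of_card (n := k) (by rw [Nat.card_zpowers, hk]))
    obtain ⟨P₀, rfl⟩ := hS P₀b
    have h1 := hP₀ (Subgroup.mem_zpowers xb)
    rw [Sylow.coe_mapSurjective] at h1
    obtain ⟨a, ha, rfl⟩ := Subgroup.mem_map.1 h1
    obtain ⟨P, hne, hmem⟩ := hQ a (sylow_orderOf' P₀ a ha)
    refine ⟨Sylow.mapSurjective hsurj P, ?_, ?_⟩
    · intro h
      apply hne
      have h2 : (P : Subgroup G).map (QuotientGroup.mk' Z) = (Q : Subgroup G).map (QuotientGroup.mk' Z) := by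
        rw [← Sylow.coe_mapSurjective hsurj, ← Sylow.coe_mapSurjective hsurj, h]
      have hle : (P : Subgroup G) ≤ (Q : Subgroup G) := by
        intro b hb
        apply mem_of_map_mem p Z hZ Q b (sylow_orderOf' P b hb)
        rw [← h2]
        exact Subgroup.mem_map_of_mem _ hb
      exact Sylow.ext (P.3 Q.2 hle).symm
    · show QuotientGroup.mk' Z a ∈ ((Sylow.mapSurjective hsurj P : Sylow p (G ⧸ Z)) : Subgroup (G ⧸ Z))
      rw [Sylow.coe_mapSurjective]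
      exact Subgroup.mem_map_of_mem _ hmem

end Cfsg.Agent.Lib.Helper27.RedundantQuot
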